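/-
Étale schemes descend along universal homeomorphisms as soon as they do so Zariski locally.
-/
import Groth.Agent.TopInv.Basic
import Mathlib

set_option autoImplicit false
set_option backward.isDefEq.respectTransparency false
set_option linter.style.haveILetI false

universe u

open CategoryTheory CategoryTheory.Limits AlgebraicGeometry TopologicalSpace

namespace Groth.Agent.EtGlueLib

variable {X Y U : Scheme.{u}} (f : X ⟶ Y) (u : U ⟶ X)

/-- A model over `Y` of the open subscheme `W` of `U`. -/
structure Model (W : U.Opens) where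
  /-- The scheme over `Y`. -/
  V : Scheme.{u}
  /-- Its structure morphism. -/
  v : V ⟶ Y
  etale : Etale v
  /-- The comparison map. -/
  p : W.toScheme ⟶ V
  isPullback : IsPullback p (W.ι ≫ u) v f

variable {f u}

namespace Model

variable [IsIntegralHom f] [UniversallyInjective f] [Surjective f] {W : U.Opens} (M : Model f u W)

theorem isIntegralHom_p : IsIntegralHom M.p :=
  MorphismProperty.of_isPullback (P := @IsIntegralHom) M.isPullback.flip ‹_›

theorem universallyInjective_p : UniversallyInjective M.p :=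
  MorphismProperty.of_isPullback (P := @UniversallyInjective) M.isPullback.flip ‹_›

theorem surjective_p : Surjective M.p :=
  MorphismProperty.of_isPullback (P := @Surjective) M.isPullback.flip ‹_›

theorem isHomeomorph_p : IsHomeomorph M.p :=
  haveI := M.isIntegralHom_p
  haveI := M.universallyInjective_p
  haveI := M.surjective_p
  isHomeomorph_iff_continuous_isClosedMap_bijective.mpr
    ⟨M.p.continuous, M.p.isClosedMap, M.p.injective, M.p.surjective⟩

include M in
theorem exists_restrict {W' : U.Opens} (h : W' ≤ W) : Nonempty (Model f u W') := by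
  let O : M.V.Opens := ⟨M.p '' (W.ι ⁻¹ᵁ W' : Set W.toScheme), M.isHomeomorph_p.isOpenMap _ (W.ι ⁻¹ᵁ W').2⟩
  have hO : M.p ⁻¹ᵁ O = W.ι ⁻¹ᵁ W' := TopologicalSpace.Opens.ext (M.isHomeomorph_p.injective.preimage_image _)
  have hr : (W.ι ''ᵁ (M.p ⁻¹ᵁ O)) = W' := by
    rw [hO, Scheme.Hom.image_preimage_eq_opensRange_inf, Scheme.Opens.opensRange_ι, inf_eq_right.2 h]
  let j : (M.p ⁻¹ᵁ O).toScheme ⟶ U := (M.p ⁻¹ᵁ O).ι ≫ W.ι
  have hj : j.opensRange = W' := by
    refine Eq.trans ?_ hr
    rw [Scheme.Hom.opensRange_comp, Scheme.Opens.opensRange_ι]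
  let e : W'.toScheme ≅ (M.p ⁻¹ᵁ O).toScheme :=
    U.isoOfEq hj.symm ≪≫ j.isoOpensRange.symm
  have he : e.hom ≫ (M.p ⁻¹ᵁ O).ι ≫ W.ι = W'.ι := by
    show ((U.isoOfEq hj.symm).hom ≫ j.isoOpensRange.inv) ≫ j = W'.ι
    rw [Category.assoc, Scheme.Hom.isoOpensRange_inv_comp, Scheme.isoOfEq_hom_ι]
  haveI := M.etale
  refine ⟨⟨O.toScheme, O.ι ≫ M.v, inferInstance, e.hom ≫ M.p ∣_ O, ?_⟩⟩
  refine IsPullback.of_iso ((isPullback_morphismRestrict M.p O).paste_vert M.isPullback) e.symm (Iso.refl _)
    (Iso.refl _) (Iso.refl _) ?_ ?_ (by simp) (by simp)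
  · simp
  · simp only [Iso.refl_hom, Category.comp_id, Iso.symm_hom]
    rw [← he]
    simp

end Model

variable (f u)

/-- The opens of `U` having a model over `Y`. -/
abbrev Ix : Type u := {W : U.Opens // Nonempty (Model f u W)}

variable {f u}

/-- The chosen model. -/
noncomputable def model (W : Ix f u) : Model f u W.1 := W.2.some

variable [IsIntegralHom f] [UniversallyInjective f] [Surjective f]

theorem existsUnique_trans {W W' : Ix f u} (h : W.1 ≤ W'.1) :
    ∃! φ : (model W).V ⟶ (model W').V, φ ≫ (model W').v = (model W).v ∧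
      (model W).p ≫ φ = U.homOfLE h ≫ (model W').p := by
  haveI := (model W).isIntegralHom_p
  haveI := (model W).universallyInjective_p
  haveI := (model W).surjective_p
  haveI := (model W').etale
  obtain ⟨φ, h1, h2⟩ := TopInv.exists_desc (model W').v (model W).v (model W).p
    (U.homOfLE h ≫ (model W').p) (by
      rw [Category.assoc, (model W').isPullback.w, (model W).isPullback.w]
      simp)
  exact ⟨φ, ⟨h1, h2⟩, fun ψ ⟨h1', h2'⟩ =>
    TopInv.eq_of_comp_eq (model W').v (model W).p ψ φ (h1'.trans h1.symm) (h2'.trans h2.symm)⟩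

/-- The transition maps. -/
noncomputable def trans {W W' : Ix f u} (h : W.1 ≤ W'.1) : (model W).V ⟶ (model W').V :=
  (existsUnique_trans h).choose

theorem trans_v {W W' : Ix f u} (h : W.1 ≤ W'.1) : trans h ≫ (model W').v = (model W).v :=
  (existsUnique_trans h).choose_spec.1.1

theorem p_trans {W W' : Ix f u} (h : W.1 ≤ W'.1) :
    (model W).p ≫ trans h = U.homOfLE h ≫ (model W').p :=
  (existsUnique_trans h).choose_spec.1.2

instance isOpenImmersion_trans {W W' : Ix f u} (h : W.1 ≤ W'.1) : IsOpenImmersion (trans h) := by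
  haveI := (model W).etale
  haveI := (model W').etale
  haveI : Etale (trans h ≫ (model W').v) := by rw [trans_v]; infer_instance
  haveI : Etale (trans h) := Etale.of_comp _ (model W').v
  haveI := (model W).surjective_p
  haveI := (model W').universallyInjective_p
  haveI : UniversallyInjective ((model W).p ≫ trans h) := by
    rw [p_trans]
    exact MorphismProperty.comp_mem @UniversallyInjective _ _ inferInstance (model W').universallyInjective_p
  haveI : UniversallyInjective (trans h) := TopInv.universallyInjective_of_precomp_surjective (model W).p _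
  haveI : Surjective (pullback.diagonal (trans h)) := (UniversallyInjective.iff_diagonal _).mp ‹_›
  haveI : IsIso (pullback.diagonal (trans h)) := TopInv.isIso_of_surjective_openImmersion _
  haveI : Mono (trans h) := (pullback.isIso_diagonal_iff _).mp inferInstance
  exact IsOpenImmersion.of_flat_of_mono _

variable (f u) in
/-- The diagram of models. -/
noncomputable def diag : Ix f u ⥤ Scheme.{u} where
  obj W := (model W).V
  map g := trans (leOfHom g)
  map_id W := ((existsUnique_trans (leOfHom (𝟙 W))).choose_spec.2 (𝟙 _) ⟨by simp, by simp⟩).symm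
  map_comp {A B C} g₁ g₂ := ((existsUnique_trans (leOfHom (g₁ ≫ g₂))).choose_spec.2
    (trans (leOfHom g₁) ≫ trans (leOfHom g₂))
    ⟨by rw [Category.assoc, trans_v, trans_v],
     by rw [← Category.assoc, p_trans, Category.assoc, p_trans, Scheme.homOfLE_homOfLE_assoc]⟩).symm

instance {W W' : Ix f u} (g : W ⟶ W') : IsOpenImmersion ((diag f u).map g) :=
  isOpenImmersion_trans _

instance : ((diag f u) ⋙ Scheme.forget).IsLocallyDirected := by
  constructor
  intro A B C ga gb xa xb hx
  obtain ⟨a, rfl⟩ := (model A).isHomeomorph_p.surjective xa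
  obtain ⟨b, rfl⟩ := (model B).isHomeomorph_p.surjective xb
  have ea : trans (leOfHom ga) ((model A).p a) = (model C).p (U.homOfLE (leOfHom ga) a) := by
    rw [← Scheme.Hom.comp_apply, p_trans, Scheme.Hom.comp_apply]
  have eb : trans (leOfHom gb) ((model B).p b) = (model C).p (U.homOfLE (leOfHom gb) b) := by
    rw [← Scheme.Hom.comp_apply, p_trans, Scheme.Hom.comp_apply]
  have hx' : trans (leOfHom ga) ((model A).p a) = trans (leOfHom gb) ((model B).p b) := hx
  have he : U.homOfLE (leOfHom ga) a = U.homOfLE (leOfHom gb) b :=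
    (model C).isHomeomorph_p.injective (ea.symm.trans (hx'.trans eb))
  have hab : A.1.ι a = B.1.ι b := by
    have h := congrArg C.1.ι he
    rwa [← Scheme.Hom.comp_apply, ← Scheme.Hom.comp_apply, Scheme.homOfLE_ι, Scheme.homOfLE_ι] at h
  let K : Ix f u := ⟨A.1 ⊓ B.1, (model A).exists_restrict inf_le_left⟩
  have hm : A.1.ι a ∈ K.1 := ⟨a.2, hab ▸ b.2⟩
  refine ⟨K, homOfLE (show K.1 ≤ A.1 from inf_le_left), homOfLE (show K.1 ≤ B.1 from inf_le_right),
    (model K).p ⟨A.1.ι a, hm⟩, ?_, ?_⟩
  · show trans _ ((model K).p ⟨A.1.ι a, hm⟩) = _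
    rw [← Scheme.Hom.comp_apply, p_trans, Scheme.Hom.comp_apply]
    congr 1
    exact Subtype.ext (by simp)
  · show trans _ ((model K).p ⟨A.1.ι a, hm⟩) = _
    rw [← Scheme.Hom.comp_apply, p_trans, Scheme.Hom.comp_apply]
    congr 1
    exact Subtype.ext (by simp [hab])

/-- An étale `X`-scheme which descends Zariski locally descends. -/
theorem exists_isPullback [Etale u] (h : ∀ z : U, ∃ W : U.Opens, z ∈ W ∧ Nonempty (Model f u W)) :
    ∃ (V : Scheme.{u}) (v : V ⟶ Y) (π : U ⟶ V), Etale v ∧ IsPullback π u v f := by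
  choose W hzW hW using h
  let w : U → Ix f u := fun z => ⟨W z, hW z⟩
  let c : Cocone (diag f u) := Cocone.mk Y
    { app := fun A => (model A).v
      naturality := fun A B g => by
        show trans (leOfHom g) ≫ (model B).v = (model A).v ≫ 𝟙 Y
        rw [trans_v, Category.comp_id] }
  let v : colimit (diag f u) ⟶ Y := colimit.desc _ c
  have hv : ∀ A, colimit.ι (diag f u) A ≫ v = (model A).v := fun A => colimit.ι_desc c A
  haveI : Etale v := IsZariskiLocalAtSource.of_openCover (P := @Etale)
    (Scheme.IsLocallyDirected.openCover (diag f u)) fun A => by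
      show Etale (colimit.ι (diag f u) A ≫ v)
      rw [hv]
      exact (model A).etale
  let 𝒲 : U.OpenCover := U.openCoverOfIsOpenCover W (TopologicalSpace.Opens.ext (Set.eq_univ_of_forall
    fun z => by simpa using ⟨z, hzW z⟩))
  have hcompat : ∀ A B : Ix f u, ∀ {T : Scheme.{u}} (a : T ⟶ A.1.toScheme) (b : T ⟶ B.1.toScheme),
      a ≫ A.1.ι = b ≫ B.1.ι →
      a ≫ (model A).p ≫ colimit.ι (diag f u) A = b ≫ (model B).p ≫ colimit.ι (diag f u) B := by
    intro A B T a b hab
    let K : Ix f u := ⟨A.1 ⊓ B.1, (model A).exists_restrict inf_le_left⟩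
    let k : T ⟶ K.1.toScheme := IsOpenImmersion.lift K.1.ι (a ≫ A.1.ι) (by
      rintro _ ⟨t, rfl⟩
      rw [Scheme.Opens.range_ι]
      exact ⟨(a t).2, by rw [hab]; exact (b t).2⟩)
    have ka : k ≫ U.homOfLE (show K.1 ≤ A.1 from inf_le_left) = a := by
      rw [← cancel_mono A.1.ι, Category.assoc, Scheme.homOfLE_ι, IsOpenImmersion.lift_fac]
    have kb : k ≫ U.homOfLE (show K.1 ≤ B.1 from inf_le_right) = b := by
      rw [← cancel_mono B.1.ι, Category.assoc, Scheme.homOfLE_ι, IsOpenImmersion.lift_fac, hab]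
    rw [← ka, ← kb, Category.assoc, Category.assoc,
      ← reassoc_of% (p_trans (show K.1 ≤ A.1 from inf_le_left)),
      ← reassoc_of% (p_trans (show K.1 ≤ B.1 from inf_le_right))]
    congr 2
    exact (colimit.w (diag f u) (homOfLE (show K.1 ≤ A.1 from inf_le_left))).trans
      (colimit.w (diag f u) (homOfLE (show K.1 ≤ B.1 from inf_le_right))).symm
  let π : U ⟶ colimit (diag f u) := 𝒲.glueMorphisms (fun z => (model (w z)).p ≫ colimit.ι (diag f u) (w z))
    fun z z' => hcompat (w z) (w z') _ _ pullback.condition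
  have hπ : ∀ A : Ix f u, A.1.ι ≫ π = (model A).p ≫ colimit.ι (diag f u) A := fun A => by
    refine Scheme.Cover.hom_ext (𝒲.pullback₁ A.1.ι) _ _ fun z => ?_
    show pullback.fst A.1.ι (W z).ι ≫ A.1.ι ≫ π = _
    rw [pullback.condition_assoc, show (W z).ι ≫ π = _ from 𝒲.ι_glueMorphisms _ _ z]
    exact (hcompat A (w z) _ _ pullback.condition).symm
  have hw : π ≫ v = u ≫ f := by
    refine Scheme.Cover.hom_ext 𝒲 _ _ fun z => ?_
    show (W z).ι ≫ π ≫ v = (W z).ι ≫ u ≫ f
    rw [reassoc_of% (hπ (w z)), hv, (model (w z)).isPullback.w]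
    simp [w]
  let m : U ⟶ pullback v f := pullback.lift π u hw
  have hinj : Function.Injective π := fun z z' e => by
    have e' : colimit.ι (diag f u) (w z) ((model (w z)).p ⟨z, hzW z⟩) =
        colimit.ι (diag f u) (w z') ((model (w z')).p ⟨z', hzW z'⟩) := by
      have h1 := congr($(hπ (w z)) ⟨z, hzW z⟩)
      have h2 := congr($(hπ (w z')) ⟨z', hzW z'⟩)
      simp only [Scheme.Hom.comp_apply] at h1 h2
      exact h1.symm.trans (Eq.trans e h2)
    obtain ⟨K, ga, gb, x, h1, h2⟩ := (Scheme.IsLocallyDirected.ι_eq_ι_iff _).1 e'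
    obtain ⟨a, rfl⟩ := (model K).isHomeomorph_p.surjective x
    have h1' : (model (w z)).p (U.homOfLE (leOfHom ga) a) = (model (w z)).p ⟨z, hzW z⟩ := by
      rw [← Scheme.Hom.comp_apply, ← p_trans, Scheme.Hom.comp_apply]; exact h1
    have h2' : (model (w z')).p (U.homOfLE (leOfHom gb) a) = (model (w z')).p ⟨z', hzW z'⟩ := by
      rw [← Scheme.Hom.comp_apply, ← p_trans, Scheme.Hom.comp_apply]; exact h2
    have h1'' := congrArg Subtype.val ((model (w z)).isHomeomorph_p.injective h1')
    have h2'' := congrArg Subtype.val ((model (w z')).isHomeomorph_p.injective h2')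
    simp only [Scheme.homOfLE_apply] at h1'' h2''
    exact h1''.symm.trans h2''
  have hsurj : Function.Surjective π := fun x => by
    obtain ⟨A, a, rfl⟩ := Scheme.IsLocallyDirected.ι_jointly_surjective (diag f u) x
    obtain ⟨b, rfl⟩ := (model A).isHomeomorph_p.surjective a
    refine ⟨A.1.ι b, ?_⟩
    rw [← Scheme.Hom.comp_apply, hπ, Scheme.Hom.comp_apply]
    rfl
  haveI : UniversallyInjective (pullback.fst v f) := MorphismProperty.pullback_fst _ _ ‹_›
  have hmπ : ∀ z, pullback.fst v f (m z) = π z := fun z => by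
    rw [← Scheme.Hom.comp_apply, pullback.lift_fst]
  have hminj : Function.Injective m := fun z z' e => hinj (by rw [← hmπ, ← hmπ, e])
  haveI : Surjective m := ⟨fun y => by
    obtain ⟨z, hz⟩ := hsurj (pullback.fst v f y)
    exact ⟨z, (pullback.fst v f).injective (by rw [hmπ, hz])⟩⟩
  haveI hloc : ∀ A : Ix f u, IsOpenImmersion (A.1.ι ≫ m) := fun A => by
    have sq : IsPullback (model A).p (A.1.ι ≫ m) (colimit.ι (diag f u) A) (pullback.fst v f) := by
      refine IsPullback.of_bot ?_ (by rw [Category.assoc, pullback.lift_fst, hπ]) (IsPullback.of_hasPullback v f)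
      rw [Category.assoc, pullback.lift_snd, hv]
      exact (model A).isPullback
    exact MorphismProperty.of_isPullback (P := @IsOpenImmersion) sq inferInstance
  haveI : Etale (pullback.snd v f) := inferInstance
  haveI : Etale (m ≫ pullback.snd v f) := by rw [pullback.lift_snd]; infer_instance
  haveI : Etale m := Etale.of_comp m (pullback.snd v f)
  haveI : IsOpenImmersion m := by
    refine IsOpenImmersion.iff_isIso_stalkMap.2
      ⟨Topology.IsOpenEmbedding.of_continuous_injective_isOpenMap m.continuous hminj m.isOpenMap, fun z => ?_⟩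
    haveI := hloc (w z)
    have h1 : IsIso (((w z).1.ι ≫ m).stalkMap ⟨z, hzW z⟩) := inferInstance
    rw [Scheme.Hom.stalkMap_comp] at h1
    exact IsIso.of_isIso_comp_right (m.stalkMap ((w z).1.ι ⟨z, hzW z⟩)) ((w z).1.ι.stalkMap ⟨z, hzW z⟩)
  haveI := TopInv.isIso_of_surjective_openImmersion m
  exact ⟨_, v, π, inferInstance, IsPullback.of_iso_pullback ⟨hw⟩ (asIso m) (pullback.lift_fst _ _ _)
    (pullback.lift_snd _ _ _)⟩

end Groth.Agent.EtGlueLib
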