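/-
Base change of small étale sites along a universal homeomorphism is an equivalence as soon as étale
schemes descend locally; the case of thickenings.
-/
import Groth.Agent.EtGlueLib.Basic
import Groth.Agent.BigSiteLib.AlmostCocont
import Groth.Prelude.Def_EtBase
import Mathlib

set_option autoImplicit false
set_option backward.isDefEq.respectTransparency false
set_option backward.isDefEq.respectTransparency.types false
set_option linter.style.haveILetI false

universe u

open CategoryTheory CategoryTheory.Limits AlgebraicGeometry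

namespace Groth.Agent.EtGlueLib

variable {X Y : Scheme.{u}} (f : X ⟶ Y) [IsIntegralHom f] [UniversallyInjective f] [Surjective f]

theorem faithful_bc : (EtCoh.bc f).Faithful := by
  refine ⟨fun {A B} φ₁ φ₂ h => ?_⟩
  haveI : Etale ((Scheme.Etale.forget Y).obj B).hom := B.prop
  let e := MorphismProperty.Over.pullbackCompForgetIso (P := EtCoh.etaleMP.{u}) (Q := ⊤) f
  apply MorphismProperty.Over.Hom.ext
  have h' : (Over.pullback f).map ((Scheme.Etale.forget Y).map φ₁) = (Over.pullback f).map ((Scheme.Etale.forget Y).map φ₂) := by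
    apply (cancel_epi (e.hom.app A)).1
    have h1 := e.hom.naturality φ₁
    have h2 := e.hom.naturality φ₂
    have h3 : (EtCoh.bc f ⋙ Scheme.Etale.forget X).map φ₁ = (EtCoh.bc f ⋙ Scheme.Etale.forget X).map φ₂ :=
      congrArg (Scheme.Etale.forget X).map h
    exact h1.symm.trans ((congrArg (· ≫ e.hom.app B) h3).trans h2)
  exact congrArg (fun t : (Scheme.Etale.forget Y).obj A ⟶ (Scheme.Etale.forget Y).obj B => t.left)
    ((TopInv.bijective_pullback_map f ((Scheme.Etale.forget Y).obj B) ((Scheme.Etale.forget Y).obj A)).1 h')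

theorem full_bc : (EtCoh.bc f).Full := by
  refine ⟨fun {A B} ψ => ?_⟩
  haveI : Etale ((Scheme.Etale.forget Y).obj B).hom := B.prop
  let e := MorphismProperty.Over.pullbackCompForgetIso (P := EtCoh.etaleMP.{u}) (Q := ⊤) f
  obtain ⟨φ, hφ⟩ := (TopInv.bijective_pullback_map f ((Scheme.Etale.forget Y).obj B) ((Scheme.Etale.forget Y).obj A)).2
    (e.inv.app A ≫ (Scheme.Etale.forget X).map ψ ≫ e.hom.app B)
  let φ' : A ⟶ B := MorphismProperty.Over.homMk φ.left (Over.w φ)
  refine ⟨φ', (Scheme.Etale.forget X).map_injective ?_⟩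
  apply (cancel_mono (e.hom.app B)).1
  have h1 := e.hom.naturality φ'
  refine h1.trans ?_
  have h2 : (Scheme.Etale.forget Y).map φ' = φ := Over.OverMorphism.ext rfl
  show e.hom.app A ≫ (Over.pullback f).map ((Scheme.Etale.forget Y).map φ') = _
  rw [h2]
  exact (congrArg (e.hom.app A ≫ ·) hφ).trans (Iso.hom_inv_id_app_assoc e A _)

/-- Base change is an equivalence if étale schemes descend Zariski locally. -/
theorem isEquivalence_bc (h : ∀ (U : X.Etale) (z : U.left), ∃ W : U.left.Opens, z ∈ W ∧ Nonempty (Model f U.hom W)) :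
    (EtCoh.bc f).IsEquivalence := by
  haveI := faithful_bc f
  haveI := full_bc f
  haveI : (EtCoh.bc f).EssSurj := ⟨fun U => by
    haveI : Etale U.hom := U.prop
    obtain ⟨V, v, π, hv, hπ⟩ := exists_isPullback (h U)
    exact ⟨Scheme.Etale.mk v, ⟨(MorphismProperty.Over.isoMk hπ.isoPullback (hπ.isoPullback_hom_snd)).symm⟩⟩⟩
  exact {}

omit [IsIntegralHom f] [UniversallyInjective f] [Surjective f] in
/-- Étale schemes over a closed subscheme lift Zariski locally. -/
theorem exists_model_closedImmersion [IsClosedImmersion f] {U : Scheme.{u}} (u : U ⟶ X) [Etale u] (z : U) :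
    ∃ W : U.Opens, z ∈ W ∧ Nonempty (Model f u W) := by
  obtain ⟨Ω, hΩ, hzΩ, -⟩ := exists_isAffineOpen_mem_and_subset (X := Y) (x := f (u z)) (U := ⊤) trivial
  have hX₀ : IsAffineOpen (f ⁻¹ᵁ Ω) := hΩ.preimage f
  obtain ⟨W₁, hW₁, hzW, hW₁X⟩ := exists_isAffineOpen_mem_and_subset (x := z) (U := u ⁻¹ᵁ (f ⁻¹ᵁ Ω)) hzΩ
  let ψ := u.appLE (f ⁻¹ᵁ Ω) W₁ hW₁X
  have hψ : ψ.hom.Etale :=
    HasRingHomProperty.appLE (@Etale) u ‹_› ⟨_, hX₀⟩ ⟨_, hW₁⟩ hW₁X
  let π := f.app Ω
  have hπ : Function.Surjective π.hom := f.app_surjective Ω hΩ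
  letI := π.hom.toAlgebra
  let e : Γ(Y, Ω) ⧸ RingHom.ker π.hom →+* Γ(X, f ⁻¹ᵁ Ω) := (RingHom.quotientKerEquivOfSurjective hπ).toRingHom
  have hψ' : (ψ.hom.comp e).Etale :=
    RingHom.Etale.stableUnderComposition e ψ.hom
      (RingHom.Etale.respectsIso.2 (RingHom.id _) (RingHom.quotientKerEquivOfSurjective hπ)
        (RingHom.Etale.containsIdentities _)) hψ
  letI := (ψ.hom.comp π.hom).toAlgebra
  letI := (ψ.hom.comp e).toAlgebra
  haveI : IsScalarTower Γ(Y, Ω) (Γ(Y, Ω) ⧸ RingHom.ker π.hom) Γ(U, W₁) :=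
    IsScalarTower.of_algebraMap_eq fun a =>
      congrArg ψ.hom (RingHom.quotientKerEquivOfSurjective_apply_mk hπ a).symm
  haveI : Algebra.Etale (Γ(Y, Ω) ⧸ RingHom.ker π.hom) Γ(U, W₁) := hψ'
  obtain ⟨A', _, _, het, Φ, hΦ, hker⟩ :=
    Groth.Agent.Hensel.exists_etale_lift_of_quotient (A := Γ(Y, Ω)) (I := RingHom.ker π.hom) Γ(U, W₁)
  let θ : Γ(Y, Ω) ⟶ CommRingCat.of A' := CommRingCat.ofHom (algebraMap _ _)
  have hw : Φ.toRingHom.comp θ.hom = ψ.hom.comp π.hom := RingHom.ext fun a => Φ.commutes a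
  haveI : Etale (Spec.map θ) := (HasRingHomProperty.Spec_iff (P := @Etale)).2 (RingHom.etale_algebraMap.2 het)
  have h1 : IsPullback (Spec.map (CommRingCat.ofHom Φ.toRingHom)) (Spec.map ψ) (Spec.map θ) (Spec.map π) :=
    isPullback_SpecMap_of_isPushout _ _ _ _ (BigSiteLib.isPushout_of_surjective hπ hΦ hw hker.le)
  have e2 : Spec.map π ≫ hΩ.fromSpec = hX₀.fromSpec ≫ f := by
    have := hΩ.SpecMap_appLE_fromSpec f hX₀ le_rfl
    rwa [Scheme.Hom.appLE_eq_app] at this
  have h2 : IsPullback (Spec.map π) hX₀.fromSpec hΩ.fromSpec f :=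
    IsOpenImmersion.isPullback _ _ _ _ e2.symm (by rw [hΩ.opensRange_fromSpec, hX₀.opensRange_fromSpec])
  refine ⟨W₁, hzW, ⟨⟨Spec (CommRingCat.of A'), Spec.map θ ≫ hΩ.fromSpec, inferInstance,
    hW₁.isoSpec.hom ≫ Spec.map (CommRingCat.ofHom Φ.toRingHom), ?_⟩⟩⟩
  refine (h1.paste_vert h2).of_iso hW₁.isoSpec.symm (Iso.refl _) (Iso.refl _) (Iso.refl _) ?_ ?_ (by simp) (by simp)
  · simp
  · simp only [Iso.refl_hom, Category.comp_id, Iso.symm_hom]
    rw [IsAffineOpen.SpecMap_appLE_fromSpec u hX₀ hW₁ hW₁X]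
    simp [IsAffineOpen.fromSpec, Scheme.Opens.ι]

end Groth.Agent.EtGlueLib
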