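/-
Étale schemes descend along integral, universally injective, surjective morphisms.

Étale locally on the base a separated étale scheme acquires a section (condition (C)), which splits
it off; by induction on the number of geometric points in the fibres it descends étale locally on
the base, and the descent datum is given by full faithfulness.
-/
import Groth.Agent.EtGlueLib.Equiv
import Groth.Agent.EtPtsLib.Parts
import Groth.Agent.S9726

set_option autoImplicit false
set_option backward.isDefEq.respectTransparency false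
set_option backward.isDefEq.respectTransparency.types false
set_option linter.style.haveILetI false

universe u

open CategoryTheory CategoryTheory.Limits AlgebraicGeometry

namespace Groth.Agent.EtGlueLib

variable {X Y U : Scheme.{u}} {f : X ⟶ Y} [IsIntegralHom f] [UniversallyInjective f] [Surjective f]

/-- `u` has at most `n` points with values in a field over each such point of the base. -/
def FibreLE {X U : Scheme.{u}} (u : U ⟶ X) (n : ℕ) : Prop :=
  ∀ (K : Type u) [Field K] (σ : Fin (n + 1) → (Spec (CommRingCat.of K) ⟶ U)),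
    (∀ i j, σ i ≫ u = σ j ≫ u) → ¬ Function.Injective σ

theorem isEmpty_of_fibreLE_zero {X U : Scheme.{u}} {u : U ⟶ X} (h : FibreLE u 0) : IsEmpty U :=
  ⟨fun z => h (U.residueField z) (fun _ => U.fromSpecResidueField z) (fun _ _ => rfl)
    (fun a b _ => Subsingleton.elim (α := Fin 1) a b)⟩

/-- Separatedness descends along a universal homeomorphism. -/
theorem isSeparated_of_isPullback {Z V : Scheme.{u}} {π : Z ⟶ V} {b : Z ⟶ X} {v : V ⟶ Y}
    (sq : IsPullback π b v f) [IsSeparated b] : IsSeparated v := by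
  haveI : IsIntegralHom π := MorphismProperty.of_isPullback (P := @IsIntegralHom) sq.flip ‹_›
  haveI : Surjective π := MorphismProperty.of_isPullback (P := @Surjective) sq.flip ‹_›
  haveI : IsSeparated (π ≫ v) := by rw [sq.w]; infer_instance
  refine ⟨?_⟩
  refine IsClosedImmersion.of_isPreimmersion _ ?_
  let m : pullback (π ≫ v) (π ≫ v) ⟶ pullback v v :=
    pullback.map _ _ _ _ π π (𝟙 Y) (by simp) (by simp)
  haveI : IsIntegralHom m :=
    MorphismProperty.pullbackMap (P := @IsIntegralHom) ‹IsIntegralHom π› ‹IsIntegralHom π› rfl rfl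
  have e : pullback.diagonal (π ≫ v) ≫ m = π ≫ pullback.diagonal v := by
    apply pullback.hom_ext <;> simp [m]
  have hr : Set.range (pullback.diagonal v) = m '' Set.range (pullback.diagonal (π ≫ v)) := by
    rw [← Set.range_comp]
    ext x
    constructor
    · rintro ⟨y, rfl⟩
      obtain ⟨z, rfl⟩ := π.surjective y
      exact ⟨z, congr($e z)⟩
    · rintro ⟨z, rfl⟩
      exact ⟨π z, (congr($e z)).symm⟩
  rw [hr]
  exact m.isClosedMap _ (pullback.diagonal (π ≫ v)).isClosedEmbedding.isClosed_range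

/-- Descent of a separated étale scheme from an étale covering of the base. -/
theorem exists_isPullback_of_cover (u : U ⟶ X) [Etale u] {V : Scheme.{u}} (p : V ⟶ Y) [Etale p] [Surjective p]
    {Z : Scheme.{u}} {a : Z ⟶ U} {q : Z ⟶ pullback p f} (hZ : IsPullback a q u (pullback.snd p f))
    {W : Scheme.{u}} {π : Z ⟶ W} {w : W ⟶ V} [Etale w] [IsSeparated w]
    (hW : IsPullback π q w (pullback.fst p f)) :
    ∃ (V₀ : Scheme.{u}) (v₀ : V₀ ⟶ Y) (π₀ : U ⟶ V₀), Etale v₀ ∧ IsPullback π₀ u v₀ f := by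
  have hWf : IsPullback π (q ≫ pullback.snd p f) (w ≫ p) f := hW.paste_vert (IsPullback.of_hasPullback p f)
  -- points of `W` over a point of `V` correspond to maps into `U` after base change along `f`
  let M : ∀ {T : Scheme.{u}} (_ : T ⟶ Y), Type u := fun {T} t =>
    {m : pullback t f ⟶ U // m ≫ u = pullback.snd t f}
  have hlw : ∀ {T : Scheme.{u}} (x : T ⟶ V) (s : Desc.Lifts (Over.mk w) x),
      (pullback.fst (x ≫ p) f ≫ s.1) ≫ w ≫ p = pullback.snd (x ≫ p) f ≫ f := fun x s => by
    rw [Category.assoc, ← pullback.condition, reassoc_of% (show s.1 ≫ w = x from s.2)]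
  let toM : ∀ {T : Scheme.{u}} (x : T ⟶ V), Desc.Lifts (Over.mk w) x → M (x ≫ p) := fun {T} x s =>
    ⟨hWf.lift (pullback.fst (x ≫ p) f ≫ s.1) (pullback.snd (x ≫ p) f) (hlw x s) ≫ a, by
      rw [Category.assoc, hZ.w, hWf.lift_snd]⟩
  have hbij : ∀ {T : Scheme.{u}} (x : T ⟶ V), Function.Bijective (toM x) := by
    intro T x
    haveI : IsIntegralHom (pullback.fst (x ≫ p) f) := MorphismProperty.pullback_fst _ _ ‹_›
    haveI : UniversallyInjective (pullback.fst (x ≫ p) f) := MorphismProperty.pullback_fst _ _ ‹_›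
    haveI : Surjective (pullback.fst (x ≫ p) f) := MorphismProperty.pullback_fst _ _ ‹_›
    have hx : ∀ (s : Desc.Lifts (Over.mk w) x),
        hWf.lift (pullback.fst (x ≫ p) f ≫ s.1) (pullback.snd (x ≫ p) f) (hlw x s) ≫ q =
          pullback.lift (pullback.fst (x ≫ p) f ≫ x) (pullback.snd (x ≫ p) f)
            (by rw [Category.assoc, pullback.condition]) := fun s => by
      apply pullback.hom_ext
      · rw [pullback.lift_fst, Category.assoc, ← hW.w, ← Category.assoc, hWf.lift_fst, Category.assoc,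
          show s.1 ≫ w = x from s.2]
      · rw [pullback.lift_snd, Category.assoc, hWf.lift_snd]
    constructor
    · intro s s' e
      have e' : hWf.lift (pullback.fst (x ≫ p) f ≫ s.1) (pullback.snd (x ≫ p) f) (hlw x s) =
          hWf.lift (pullback.fst (x ≫ p) f ≫ s'.1) (pullback.snd (x ≫ p) f) (hlw x s') :=
        hZ.hom_ext (congrArg Subtype.val e) ((hx s).trans (hx s').symm)
      have e'' := congrArg (· ≫ π) e'
      simp only [hWf.lift_fst] at e''
      exact Subtype.ext (TopInv.eq_of_comp_eq w (pullback.fst (x ≫ p) f) s.1 s'.1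
        ((show s.1 ≫ w = x from s.2).trans (show s'.1 ≫ w = x from s'.2).symm) e'')
    · rintro ⟨m, hm⟩
      let z := hZ.lift m (pullback.lift (pullback.fst (x ≫ p) f ≫ x) (pullback.snd (x ≫ p) f)
        (by rw [Category.assoc, pullback.condition])) (by rw [pullback.lift_snd, hm])
      obtain ⟨s, hs, hqs⟩ := TopInv.exists_desc w x (pullback.fst (x ≫ p) f) (z ≫ π) (by
        rw [Category.assoc, hW.w, ← Category.assoc, hZ.lift_snd, pullback.lift_fst])
      refine ⟨⟨s, hs⟩, Subtype.ext ?_⟩
      show hWf.lift _ _ _ ≫ a = m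
      have : hWf.lift (pullback.fst (x ≫ p) f ≫ s) (pullback.snd (x ≫ p) f) (hlw x ⟨s, hs⟩) = z := by
        apply hWf.hom_ext
        · rw [hWf.lift_fst, hqs]
        · rw [hWf.lift_snd, ← Category.assoc, hZ.lift_snd, pullback.lift_snd]
      rw [this, hZ.lift_fst]
  let E : ∀ {T : Scheme.{u}} (x : T ⟶ V), Desc.Lifts (Over.mk w) x ≃ M (x ≫ p) := fun {T} x =>
    Equiv.ofBijective (toM x) (hbij x)
  let cast : ∀ {T : Scheme.{u}} {t t' : T ⟶ Y}, t = t' → M t ≃ M t' := fun {T t t'} h => h ▸ Equiv.refl _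
  have hcast : ∀ {T : Scheme.{u}} {t t' : T ⟶ Y} (h : t = t') (m : M t),
      (cast h m).1 = pullback.map t' f t f (𝟙 T) (𝟙 X) (𝟙 Y) (by rw [h]; simp) (by simp) ≫ m.1 := by
    intro T t t' h m
    subst h
    simp [cast]
  let D : Desc.SchDD p :=
    { obj := Over.mk w
      φ := fun T x₀ x₁ h => (E x₀).trans ((cast h).trans (E x₁).symm)
      φ_natural := fun T T' g x₀ x₁ h h' s s' hs' => by
        let r : pullback ((g ≫ x₁) ≫ p) f ⟶ pullback (x₁ ≫ p) f :=
          pullback.map _ _ _ _ g (𝟙 X) (𝟙 Y) (by simp) (by simp)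
        let s₁ := (E x₁).symm (cast h (E x₀ s))
        let t₁ : Desc.Lifts (Over.mk w) (g ≫ x₁) := ⟨g ≫ s₁.1, by
          rw [Category.assoc, show s₁.1 ≫ (Over.mk w).hom = x₁ from s₁.2]⟩
        suffices e : (E (g ≫ x₁)).symm (cast h' (E (g ≫ x₀) s')) = t₁ from congrArg Subtype.val e
        rw [Equiv.symm_apply_eq]
        apply Subtype.ext
        have e1 : (E (g ≫ x₁) t₁).1 = r ≫ (E x₁ s₁).1 := by
          show hWf.lift _ _ _ ≫ a = r ≫ hWf.lift _ _ _ ≫ a
          rw [← Category.assoc r]
          congr 1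
          apply hWf.hom_ext <;> simp [r, t₁, pullback.condition_assoc]
        rw [e1, show E x₁ s₁ = cast h (E x₀ s) from Equiv.apply_symm_apply _ _, hcast, hcast]
        show _ ≫ hWf.lift _ _ _ ≫ a = r ≫ _ ≫ hWf.lift _ _ _ ≫ a
        simp only [← Category.assoc]
        congr 1
        apply hWf.hom_ext <;> simp [r, hs']
      φ_self := fun T x s => by
        show (E x).symm (cast rfl (E x s)) = s
        simp [cast]
      φ_comp := fun T x₀ x₁ x₂ h₀₁ h₁₂ s => by
        show (E x₂).symm (cast h₁₂ (E x₁ ((E x₁).symm (cast h₀₁ (E x₀ s))))) = (E x₂).symm (cast _ (E x₀ s))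
        rw [Equiv.apply_symm_apply]
        congr 1
        apply Subtype.ext
        rw [hcast, hcast, hcast, ← Category.assoc]
        congr 1
        apply pullback.hom_ext <;> simp }
  haveI : IsSeparated D.obj.hom := ‹IsSeparated w›
  haveI : LocallyQuasiFinite D.obj.hom := Unibranch.locallyQuasiFinite_of_etale w
  haveI : LocallyOfFiniteType D.obj.hom := (inferInstance : LocallyOfFiniteType w)
  obtain ⟨V₀, ⟨iso⟩⟩ := S9726.result p D
  let e : pullback p V₀.hom ≅ W :=
    { hom := iso.hom.hom.left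
      inv := iso.inv.hom.left
      hom_inv_id := congr($(iso.hom_inv_id).hom.left)
      inv_hom_id := congr($(iso.inv_hom_id).hom.left) }
  have hew : e.hom ≫ w = pullback.fst p V₀.hom := Over.w iso.hom.hom
  have sq : IsPullback (e.inv ≫ pullback.snd p V₀.hom) w V₀.hom p := by
    refine (IsPullback.of_hasPullback p V₀.hom).flip.of_iso e (Iso.refl _) (Iso.refl _) (Iso.refl _) ?_ ?_ (by simp) (by simp)
    · simp
    · simp [hew]
  haveI : Etale V₀.hom := MorphismProperty.DescendsAlong.of_isPullback (P := @Etale)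
    (Q := @Surjective ⊓ @Flat ⊓ @LocallyOfFinitePresentation) sq.flip ⟨⟨‹_›, inferInstance⟩, inferInstance⟩ ‹_›
  -- the composite to `V₀` descends along `a`
  let c : Z ⟶ V₀.left := π ≫ e.inv ≫ pullback.snd p V₀.hom
  haveI : Surjective (pullback.snd p f) := MorphismProperty.pullback_snd _ _ ‹_›
  haveI : Etale a := MorphismProperty.of_isPullback (P := @Etale) hZ.flip inferInstance
  haveI : Surjective a := MorphismProperty.of_isPullback (P := @Surjective) hZ.flip ‹_›
  let k₀ := pullback.fst a a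
  let k₁ := pullback.snd a a
  have hk : k₀ ≫ c = k₁ ≫ c := by
    have hk0 : (k₀ ≫ π ≫ w) ≫ p = (k₁ ≫ π ≫ w) ≫ p := by
      simp only [Category.assoc, hWf.w, k₀, k₁]
      rw [← reassoc_of% hZ.w, pullback.condition_assoc]
    let w₀ : Desc.Lifts (Over.mk w) (k₀ ≫ π ≫ w) := ⟨k₀ ≫ π, Category.assoc _ _ _⟩
    let w₁ : Desc.Lifts (Over.mk w) (k₁ ≫ π ≫ w) := ⟨k₁ ≫ π, Category.assoc _ _ _⟩
    have hφ : D.φ _ _ hk0 w₀ = w₁ := by
      show (E _).symm (cast hk0 (E _ w₀)) = w₁
      rw [Equiv.symm_apply_eq]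
      apply Subtype.ext
      rw [hcast]
      -- compare after the surjection from the fibre product
      let δ : pullback a a ⟶ pullback ((k₁ ≫ π ≫ w) ≫ p) f :=
        pullback.lift (𝟙 _) (k₁ ≫ q ≫ pullback.snd p f) (by
          simp only [Category.assoc, Category.id_comp, hWf.w])
      haveI : Surjective δ := by
        refine ⟨fun y => ⟨pullback.fst ((k₁ ≫ π ≫ w) ≫ p) f y, ?_⟩⟩
        haveI : UniversallyInjective (pullback.fst ((k₁ ≫ π ≫ w) ≫ p) f) :=
          MorphismProperty.pullback_fst _ _ ‹_›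
        apply (pullback.fst ((k₁ ≫ π ≫ w) ≫ p) f).injective
        rw [← Scheme.Hom.comp_apply, pullback.lift_fst]
        rfl
      refine TopInv.eq_of_comp_eq u δ _ _ ?_ ?_
      · refine (Category.assoc _ _ _).trans ((congrArg (pullback.map _ _ _ _ _ _ _ _ _ ≫ ·) (E _ w₀).2).trans ?_)
        rw [(E _ w₁).2, pullback.lift_snd, Category.comp_id]
      · show δ ≫ _ ≫ hWf.lift _ _ _ ≫ a = δ ≫ hWf.lift _ _ _ ≫ a
        have h0 : δ ≫ pullback.map _ _ _ _ (𝟙 (pullback a a)) (𝟙 X) (𝟙 Y) (by rw [hk0]; simp) (by simp) ≫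
            hWf.lift (pullback.fst ((k₀ ≫ π ≫ w) ≫ p) f ≫ w₀.1) (pullback.snd _ f) (hlw _ w₀) = k₀ := by
          apply hWf.hom_ext
          · simp [δ, w₀]
            exact Category.id_comp _
          · simp only [δ, Category.assoc, hWf.lift_snd, pullback.lift_snd, Category.comp_id]
            simp only [k₀, k₁, ← hZ.w, pullback.condition_assoc]
        have h1 : δ ≫ hWf.lift (pullback.fst ((k₁ ≫ π ≫ w) ≫ p) f ≫ w₁.1) (pullback.snd _ f) (hlw _ w₁) = k₁ := by
          apply hWf.hom_ext <;> simp [δ, w₁]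
          exact Category.id_comp _
        rw [reassoc_of% h0, reassoc_of% h1, pullback.condition]
    have hc := iso.inv.comm (k₀ ≫ π ≫ w) (k₁ ≫ π ≫ w) hk0 w₀ (iso.inv.push w₀) rfl
    rw [hφ] at hc
    have hc' := congrArg (· ≫ pullback.snd p V₀.hom) hc
    simp only [Desc.toDD, Desc.canonicalDD, Equiv.coe_fn_mk, Desc.canMap_val, pullback.lift_snd] at hc'
    simpa [c, w₁, w₀, Desc.SchDD.Hom.push, e, Category.assoc] using hc'
  haveI : EffectiveEpi a := inferInstance
  obtain ⟨π₀, hπ₀⟩ : ∃ π₀ : U ⟶ V₀.left, a ≫ π₀ = c :=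
    ⟨EffectiveEpi.desc a c (fun {T} g₁ g₂ hg => by
      have := congrArg (pullback.lift g₁ g₂ hg ≫ ·) hk
      simpa [k₀, k₁] using this), EffectiveEpi.fac a c _⟩
  have hw₀ : π₀ ≫ V₀.hom = u ≫ f := by
    rw [← cancel_epi a, reassoc_of% hπ₀, reassoc_of% hZ.w]
    simp only [c, Category.assoc]
    rw [← pullback.condition, ← reassoc_of% hew, e.inv_hom_id_assoc, ← Category.assoc q, ← hWf.w]
  let P := pullback V₀.hom f
  let m : U ⟶ P := pullback.lift π₀ u hw₀
  -- `Z` is the base change of `P` along the covering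
  have h2 : IsPullback (a ≫ m) q (pullback.snd V₀.hom f) (pullback.snd p f) := by
    refine IsPullback.of_right (h₁₂ := pullback.fst V₀.hom f) (v₁₃ := V₀.hom) (h₂₂ := f) ?_ ?_
      (IsPullback.of_hasPullback V₀.hom f)
    · rw [Category.assoc, pullback.lift_fst, hπ₀, ← pullback.condition]
      exact hW.paste_horiz sq
    · rw [Category.assoc, pullback.lift_snd, hZ.w]
  have h3 : IsPullback a (𝟙 Z) m (a ≫ m) := by
    refine IsPullback.of_bot (v₂₁ := q) (v₂₂ := pullback.snd V₀.hom f) ?_ (by simp) h2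
    rw [Category.id_comp, pullback.lift_snd]
    exact hZ
  haveI : Etale (m ≫ pullback.snd V₀.hom f) := by rw [pullback.lift_snd]; infer_instance
  haveI : Etale m := Etale.of_comp m (pullback.snd V₀.hom f)
  haveI : Etale (a ≫ m) := inferInstance
  haveI : Surjective (a ≫ m) := MorphismProperty.of_isPullback (P := @Surjective) h2.flip ‹_›
  haveI : IsIso m := MorphismProperty.DescendsAlong.of_isPullback (P := MorphismProperty.isomorphisms Scheme.{u})
    (Q := @Surjective ⊓ @Flat ⊓ @LocallyOfFinitePresentation) h3.flip ⟨⟨‹_›, inferInstance⟩, inferInstance⟩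
    (MorphismProperty.isomorphisms.infer_property _)
  exact ⟨V₀.left, V₀.hom, π₀, inferInstance,
    IsPullback.of_iso_pullback ⟨hw₀⟩ (asIso m) (pullback.lift_fst _ _ _) (pullback.lift_snd _ _ _)⟩

end Groth.Agent.EtGlueLib
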