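/-
Base change of small étale sites along a universal homeomorphism is an equivalence.
-/
import Groth.Agent.EtGlueLib.UnivHomeo

set_option autoImplicit false
set_option backward.isDefEq.respectTransparency false
set_option backward.isDefEq.respectTransparency.types false
set_option linter.style.haveILetI false

universe u

open CategoryTheory CategoryTheory.Limits AlgebraicGeometry

namespace Groth.Agent.EtGlueLib

/-- A separated étale scheme with boundedly many geometric points in its fibres descends. -/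
theorem exists_isPullback_of_fibreLE (n : ℕ) :
    ∀ {X Y U : Scheme.{u}} (f : X ⟶ Y) [IsIntegralHom f] [UniversallyInjective f] [Surjective f]
      (u : U ⟶ X) [Etale u] [IsSeparated u], FibreLE u n →
    ∃ (V : Scheme.{u}) (v : V ⟶ Y) (π : U ⟶ V), Etale v ∧ IsPullback π u v f := by
  induction n with
  | zero =>
    intro X Y U f _ _ _ u _ _ h
    haveI := isEmpty_of_fibreLE_zero h
    exact exists_isPullback (u := u) fun z => isEmptyElim z
  | succ n IH =>
    intro X Y U f _ _ _ u _ _ h
    obtain ⟨V, v, hv, s, hs, hsurj⟩ := EtPtsLib.propC_of_integral f f.injective U u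
    haveI := hv
    haveI := hsurj
    -- the open image of the covering
    let Y₀ : Y.Opens := ⟨Set.range v, v.isOpenMap.isOpen_range⟩
    let p : V ⟶ Y₀.toScheme := IsOpenImmersion.lift Y₀.ι v (by rw [Scheme.Opens.range_ι]; exact subset_rfl)
    have hp : p ≫ Y₀.ι = v := IsOpenImmersion.lift_fac _ _ _
    haveI : Etale (p ≫ Y₀.ι) := by rw [hp]; infer_instance
    haveI : Etale p := Etale.of_comp p Y₀.ι
    haveI : Surjective p := ⟨fun ⟨y, x, hx⟩ => ⟨x, Y₀.ι.isOpenEmbedding.injective (by
      rw [← Scheme.Hom.comp_apply, hp]; exact hx)⟩⟩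
    let X₀ := f ⁻¹ᵁ Y₀
    let f₀ := f ∣_ Y₀
    have hf₀ := isPullback_morphismRestrict f Y₀
    haveI : IsIntegralHom f₀ := MorphismProperty.of_isPullback (P := @IsIntegralHom) hf₀.flip ‹_›
    haveI : UniversallyInjective f₀ := MorphismProperty.of_isPullback (P := @UniversallyInjective) hf₀.flip ‹_›
    haveI : Surjective f₀ := MorphismProperty.of_isPullback (P := @Surjective) hf₀.flip ‹_›
    have hu0 : Set.range u ⊆ Set.range X₀.ι := by
      rintro _ ⟨z, rfl⟩
      obtain ⟨t, rfl⟩ := s.surjective z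
      rw [Scheme.Opens.range_ι]
      show f (u (s t)) ∈ Set.range v
      rw [← Scheme.Hom.comp_apply, ← Scheme.Hom.comp_apply, ← Category.assoc, hs, pullback.condition]
      exact ⟨_, (Scheme.Hom.comp_apply _ _ _).symm⟩
    let u₀ : U ⟶ X₀.toScheme := IsOpenImmersion.lift X₀.ι u hu0
    have hu₀ : u₀ ≫ X₀.ι = u := IsOpenImmersion.lift_fac _ _ _
    haveI : Etale (u₀ ≫ X₀.ι) := by rw [hu₀]; infer_instance
    haveI : Etale u₀ := Etale.of_comp u₀ X₀.ι
    haveI : IsSeparated (u₀ ≫ X₀.ι) := by rw [hu₀]; infer_instance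
    haveI : IsSeparated u₀ := IsSeparated.of_comp u₀ X₀.ι
    -- the base change to the covering and its tautological section
    let q : pullback u₀ (pullback.snd p f₀) ⟶ pullback p f₀ := pullback.snd _ _
    let g : pullback p f₀ ⟶ pullback f v :=
      pullback.lift (pullback.snd p f₀ ≫ X₀.ι) (pullback.fst p f₀) (by
        rw [Category.assoc, ← morphismRestrict_ι, ← pullback.condition_assoc, hp])
    let σ : pullback p f₀ ⟶ pullback u₀ (pullback.snd p f₀) :=
      pullback.lift (g ≫ s) (𝟙 _) (by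
        rw [Category.id_comp, ← cancel_mono X₀.ι, Category.assoc, Category.assoc, hu₀, hs, pullback.lift_fst])
    haveI : Etale (σ ≫ q) := by rw [pullback.lift_snd]; infer_instance
    haveI : Etale σ := Etale.of_comp σ q
    haveI : IsClosedImmersion σ := by
      haveI : IsClosedImmersion (σ ≫ q) := by rw [pullback.lift_snd]; infer_instance
      exact IsClosedImmersion.of_comp σ q
    haveI : IsOpenImmersion σ := IsOpenImmersion.of_flat_of_mono σ
    let R : (pullback u₀ (pullback.snd p f₀)).Opens := ⟨(Set.range σ)ᶜ, σ.isClosedEmbedding.isClosed_range.isOpen_compl⟩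
    haveI : IsIntegralHom (pullback.fst p f₀) := MorphismProperty.pullback_fst _ _ ‹_›
    haveI : UniversallyInjective (pullback.fst p f₀) := MorphismProperty.pullback_fst _ _ ‹_›
    haveI : Surjective (pullback.fst p f₀) := MorphismProperty.pullback_fst _ _ ‹_›
    haveI : Etale (R.ι ≫ q) := inferInstance
    haveI : IsSeparated (R.ι ≫ q) := inferInstance
    have hR : FibreLE (R.ι ≫ q) n := by
      intro K _ τ hτ hinj
      let x := τ 0 ≫ R.ι ≫ q
      let ρ : Fin (n + 2) → (Spec (CommRingCat.of K) ⟶ pullback u₀ (pullback.snd p f₀)) :=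
        Fin.cons (x ≫ σ) fun i => τ i ≫ R.ι
      have hρ : ∀ i, ρ i ≫ q = x := by
        refine Fin.cases ?_ fun i => ?_
        · simp [ρ, σ, q]
        · simp only [ρ, Fin.cons_succ, Category.assoc]
          exact hτ i 0
      refine h K (fun i => ρ i ≫ pullback.fst _ _) (fun i j => ?_) fun i j e => ?_
      · simp only [← hu₀, Category.assoc, pullback.condition_assoc]
        simp only [← Category.assoc]
        rw [show ρ i ≫ pullback.snd u₀ (pullback.snd p f₀) = x from hρ i,
          show ρ j ≫ pullback.snd u₀ (pullback.snd p f₀) = x from hρ j]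
      · have e' : ρ i = ρ j := pullback.hom_ext e ((hρ i).trans (hρ j).symm)
        have hne : ∀ k, x ≫ σ ≠ τ k ≫ R.ι := fun k ek => by
          let pt : Spec (CommRingCat.of K) := (default : PrimeSpectrum K)
          exact (τ k pt).2 ⟨x pt, by rw [← Scheme.Hom.comp_apply, ek]; rfl⟩
        revert e'
        refine Fin.cases ?_ (fun i' => ?_) i <;> refine Fin.cases ?_ (fun j' => ?_) j <;>
          simp only [ρ, Fin.cons_zero, Fin.cons_succ] <;> intro e'
        · trivial
        · exact absurd e' (hne _)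
        · exact absurd e'.symm (hne _)
        · rw [hinj ((cancel_mono R.ι).1 e')]
    obtain ⟨VR, vR, πR, hvR, hπR⟩ := IH (pullback.fst p f₀) (R.ι ≫ q) hR
    -- models of both pieces
    have hmodel : ∀ z, ∃ W : (pullback u₀ (pullback.snd p f₀)).Opens,
        z ∈ W ∧ Nonempty (Model (pullback.fst p f₀) q W) := fun z => by
      by_cases hz : z ∈ Set.range σ
      · refine ⟨σ.opensRange, hz, ⟨⟨V, 𝟙 V, inferInstance, σ.isoOpensRange.inv ≫ pullback.fst p f₀, ?_⟩⟩⟩
        refine (IsPullback.of_vert_isIso (snd := 𝟙 _) ⟨by simp⟩ : IsPullback (pullback.fst p f₀) (𝟙 _) (𝟙 V)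
          (pullback.fst p f₀)).of_iso σ.isoOpensRange (Iso.refl _) (Iso.refl _) (Iso.refl _) ?_ ?_ (by simp) (by simp)
        · simp
        · simp [σ, q]
      · exact ⟨R, hz, ⟨⟨VR, vR, hvR, πR, hπR⟩⟩⟩
    obtain ⟨W, w, π, hw, hW⟩ := exists_isPullback (f := pullback.fst p f₀) (u := q) hmodel
    haveI := hw
    haveI : IsSeparated q := inferInstance
    haveI : IsSeparated w := isSeparated_of_isPullback hW
    obtain ⟨V₀, v₀, π₀, hv₀, hπ₀⟩ := exists_isPullback_of_cover (f := f₀) u₀ p
      (IsPullback.of_hasPullback u₀ (pullback.snd p f₀)) hW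
    haveI := hv₀
    refine ⟨V₀, v₀ ≫ Y₀.ι, π₀, inferInstance, ?_⟩
    rw [← hu₀]
    exact hπ₀.paste_vert hf₀

/-- Zariski locally an étale scheme has boundedly many geometric points in its fibres. -/
theorem exists_fibreLE {X U : Scheme.{u}} (u : U ⟶ X) [Etale u] (z : U) :
    ∃ (W : U.Opens) (n : ℕ), z ∈ W ∧ IsSeparated (W.ι ≫ u) ∧ FibreLE (W.ι ≫ u) n := by
  classical
  obtain ⟨Ω, hΩ, hzΩ, -⟩ := exists_isAffineOpen_mem_and_subset (X := X) (x := u z) (U := ⊤) trivial
  obtain ⟨W₁, hW₁, hzW, hW₁X⟩ := exists_isAffineOpen_mem_and_subset (x := z) (U := u ⁻¹ᵁ Ω) hzΩ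
  let ψ := u.appLE Ω W₁ hW₁X
  letI := ψ.hom.toAlgebra
  haveI : Algebra.Etale Γ(X, Ω) Γ(U, W₁) := RingHom.etale_algebraMap.1
    (HasRingHomProperty.appLE (@Etale) u ‹_› ⟨_, hΩ⟩ ⟨_, hW₁⟩ hW₁X)
  let Q := (hW₁.primeIdealOf ⟨z, hzW⟩).asIdeal
  obtain ⟨g, hg, hst⟩ := Algebra.IsEtaleAt.exists_isStandardEtale (R := Γ(X, Ω)) Q
  haveI := hst
  let L := Localization.Away g
  let j : Spec (CommRingCat.of L) ⟶ U := Spec.map (CommRingCat.ofHom (algebraMap Γ(U, W₁) L)) ≫ hW₁.fromSpec
  have hju : j ≫ u = Spec.map (CommRingCat.ofHom (algebraMap Γ(X, Ω) L)) ≫ hΩ.fromSpec := by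
    rw [Category.assoc, ← IsAffineOpen.SpecMap_appLE_fromSpec u hΩ hW₁ hW₁X, ← Spec.map_comp_assoc]
    rfl
  have hz : z ∈ j.opensRange := by
    obtain ⟨y, hy⟩ : hW₁.primeIdealOf ⟨z, hzW⟩ ∈ Set.range (PrimeSpectrum.comap (algebraMap Γ(U, W₁) L)) := by
      rw [PrimeSpectrum.localization_away_comap_range _ g]
      exact hg
    refine ⟨y, ?_⟩
    show hW₁.fromSpec (Spec.map (CommRingCat.ofHom (algebraMap Γ(U, W₁) L)) y) = z
    rw [show Spec.map (CommRingCat.ofHom (algebraMap Γ(U, W₁) L)) y = hW₁.primeIdealOf ⟨z, hzW⟩ from hy,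
      hW₁.fromSpec_primeIdealOf]
  let P : StandardEtalePresentation Γ(X, Ω) L := Algebra.IsStandardEtale.nonempty_standardEtalePresentation.some
  refine ⟨j.opensRange, P.f.natDegree, hz, ?_, ?_⟩
  · haveI : IsAffine j.opensRange.toScheme := .of_isIso j.isoOpensRange.inv
    exact IsSeparated.of_comp (f := j.opensRange.ι ≫ u) (g := terminal.from X)
  · intro K _ σ hσ hinj
    choose τ hτ using fun i => Spec.map_surjective (σ i ≫ j.isoOpensRange.inv)
    have hτu : ∀ i, Spec.map (CommRingCat.ofHom (algebraMap Γ(X, Ω) L) ≫ τ i) ≫ hΩ.fromSpec =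
        σ i ≫ j.opensRange.ι ≫ u := fun i => by
      rw [Spec.map_comp, Category.assoc, ← hju, hτ, Category.assoc, Scheme.Hom.isoOpensRange_inv_comp_assoc]
    have hbase : ∀ i k, (τ i).hom.comp (algebraMap Γ(X, Ω) L) = (τ k).hom.comp (algebraMap Γ(X, Ω) L) := fun i k => by
      have := (cancel_mono hΩ.fromSpec).1 ((hτu i).trans ((hσ i k).trans (hτu k).symm))
      exact congrArg CommRingCat.Hom.hom (Spec.map_injective this)
    letI : Algebra Γ(X, Ω) K := ((τ 0).hom.comp (algebraMap Γ(X, Ω) L)).toAlgebra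
    let φ : Fin (P.f.natDegree + 1) → (L →ₐ[Γ(X, Ω)] K) := fun i =>
      { (τ i).hom with commutes' := fun r => RingHom.congr_fun (hbase i 0) r }
    have hxinj : Function.Injective fun i => φ i P.x := fun a b e => by
      have hab : φ a = φ b := by
        refine AlgHom.ext fun l => ?_
        obtain ⟨r, rfl⟩ := P.equivRing.symm.surjective l
        have := P.P.hom_ext (f := (φ a).comp P.equivRing.symm.toAlgHom)
          (g := (φ b).comp P.equivRing.symm.toAlgHom) (by simpa using e)
        exact AlgHom.congr_fun this r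
      apply hinj
      have : τ a = τ b := CommRingCat.hom_ext (congrArg AlgHom.toRingHom hab)
      rw [← cancel_mono j.isoOpensRange.inv, ← hτ, ← hτ, this]
    let pK := P.f.map (algebraMap Γ(X, Ω) K)
    have hmon : pK ≠ 0 := (P.monic_f.map _).ne_zero
    have hsub : Finset.univ.image (fun i => φ i P.x) ⊆ pK.roots.toFinset := by
      intro y hy
      obtain ⟨i, -, rfl⟩ := Finset.mem_image.1 hy
      rw [Multiset.mem_toFinset, Polynomial.mem_roots hmon, Polynomial.IsRoot, Polynomial.eval_map,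
        ← Polynomial.aeval_def, Polynomial.aeval_algHom_apply, P.hasMap.1, map_zero]
    have := (Finset.card_le_card hsub).trans (pK.roots.toFinset_card_le.trans pK.card_roots')
    rw [Finset.card_image_of_injective _ hxinj, Finset.card_univ, Fintype.card_fin,
      P.monic_f.natDegree_map] at this
    omega

/-- Étale schemes descend along universal homeomorphisms. -/
theorem exists_model_univHomeo {X Y U : Scheme.{u}} (f : X ⟶ Y) [IsIntegralHom f] [UniversallyInjective f]
    [Surjective f] (u : U ⟶ X) [Etale u] (z : U) : ∃ W : U.Opens, z ∈ W ∧ Nonempty (Model f u W) := by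
  obtain ⟨W, n, hz, _, hn⟩ := exists_fibreLE u z
  obtain ⟨V, v, π, hv, hπ⟩ := exists_isPullback_of_fibreLE n f (W.ι ≫ u) hn
  exact ⟨W, hz, ⟨⟨V, v, hv, π, hπ⟩⟩⟩

end Groth.Agent.EtGlueLib
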