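/-
Étale schemes descend along faithfully flat quasi-compact radicial morphisms.
-/
import Groth.Agent.EtGlueLib.Equiv
import Groth.Agent.UnivHomeo.Basic
import Groth.Agent.S1133

set_option autoImplicit false
set_option backward.isDefEq.respectTransparency false
set_option backward.isDefEq.respectTransparency.types false
set_option linter.style.haveILetI false

universe u

open CategoryTheory CategoryTheory.Limits AlgebraicGeometry

namespace Groth.Agent.EtGlueLib

variable {X Y : Scheme.{u}} (g : X ⟶ Y) [Flat g] [Surjective g] [QuasiCompact g] [UniversallyInjective g]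

theorem isUnivHomeo_of_flat_radicial : FlatMor.IsUnivHomeo g := by
  intro X' Y' i₁ i₂ g' hp
  haveI : Flat g' := MorphismProperty.of_isPullback (P := @Flat) hp.flip ‹_›
  haveI : Surjective g' := MorphismProperty.of_isPullback (P := @Surjective) hp.flip ‹_›
  haveI : QuasiCompact g' := MorphismProperty.of_isPullback (P := @QuasiCompact) hp.flip ‹_›
  haveI : UniversallyInjective g' := MorphismProperty.of_isPullback (P := @UniversallyInjective) hp.flip ‹_›
  have hq : Topology.IsQuotientMap g' := Flat.isQuotientMap_of_surjective g'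
  refine isHomeomorph_iff_continuous_isClosedMap_bijective.mpr ⟨g'.continuous, fun C hC => ?_, g'.injective, g'.surjective⟩
  rw [← hq.isClosed_preimage, g'.injective.preimage_image]
  exact hC

omit [Flat g] [Surjective g] [QuasiCompact g] in
/-- Two points of `X` with the same image in `Y` agree after a surjective closed immersion. -/
theorem exists_equalizing [IsSeparated g] {T : Scheme.{u}} (x₀ x₁ : T ⟶ X) (h : x₀ ≫ g = x₁ ≫ g) :
    ∃ (T₀ : Scheme.{u}) (e : T₀ ⟶ T), IsClosedImmersion e ∧ Surjective e ∧ e ≫ x₀ = e ≫ x₁ := by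
  haveI : Surjective (pullback.diagonal g) := (UniversallyInjective.iff_diagonal g).mp ‹_›
  let m : T ⟶ pullback g g := pullback.lift x₀ x₁ h
  refine ⟨pullback m (pullback.diagonal g), pullback.fst _ _, inferInstance, inferInstance, ?_⟩
  have h1 := congrArg (· ≫ pullback.fst g g) (pullback.condition (f := m) (g := pullback.diagonal g))
  have h2 := congrArg (· ≫ pullback.snd g g) (pullback.condition (f := m) (g := pullback.diagonal g))
  simp only [m, Category.assoc, pullback.lift_fst, pullback.lift_snd, pullback.diagonal_fst,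
    pullback.diagonal_snd, Category.comp_id] at h1 h2
  exact h1.trans h2.symm

variable [IsSeparated g] {U : Scheme.{u}} (u : U ⟶ X) [Etale u]

omit [Flat g] [Surjective g] [QuasiCompact g] in
theorem existsUnique_lift {T : Scheme.{u}} (x₀ x₁ : T ⟶ X) (h : x₀ ≫ g = x₁ ≫ g) (v : Desc.Lifts (Over.mk u) x₀) :
    ∃! w : Desc.Lifts (Over.mk u) x₁, ∀ {Z : Scheme.{u}} (q : Z ⟶ T), q ≫ x₀ = q ≫ x₁ → q ≫ w.1 = q ≫ v.1 := by
  obtain ⟨T₀, e, _, _, he⟩ := exists_equalizing g x₀ x₁ h
  obtain ⟨w, hw, hew⟩ := TopInv.exists_desc u x₁ e (e ≫ v.1) (by rw [Category.assoc, show v.1 ≫ u = x₀ from v.2, he])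
  refine ⟨⟨w, hw⟩, fun {Z} q hq => ?_, fun w' hw' => Subtype.ext
    (TopInv.eq_of_comp_eq u e w'.1 w (w'.2.trans hw.symm) ((hw' e he).trans hew.symm))⟩
  haveI : Surjective (pullback.fst q e) := inferInstance
  have hv : v.1 ≫ u = x₀ := v.2
  refine TopInv.eq_of_comp_eq u (pullback.fst q e) (q ≫ w) (q ≫ v.1) (by rw [Category.assoc, hw, Category.assoc, hv, hq]) ?_
  rw [pullback.condition_assoc, pullback.condition_assoc, hew]

/-- The transport of points. -/
noncomputable def transport {T : Scheme.{u}} (x₀ x₁ : T ⟶ X) (h : x₀ ≫ g = x₁ ≫ g) (v : Desc.Lifts (Over.mk u) x₀) :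
    Desc.Lifts (Over.mk u) x₁ :=
  (existsUnique_lift g u x₀ x₁ h v).choose

omit [Flat g] [Surjective g] [QuasiCompact g] in
theorem transport_eq_iff {T : Scheme.{u}} (x₀ x₁ : T ⟶ X) (h : x₀ ≫ g = x₁ ≫ g) (v : Desc.Lifts (Over.mk u) x₀)
    (w : Desc.Lifts (Over.mk u) x₁) :
    transport g u x₀ x₁ h v = w ↔ ∀ {Z : Scheme.{u}} (q : Z ⟶ T), q ≫ x₀ = q ≫ x₁ → q ≫ w.1 = q ≫ v.1 := by
  refine ⟨fun e => e ▸ (existsUnique_lift g u x₀ x₁ h v).choose_spec.1, fun hw => ?_⟩
  exact ((existsUnique_lift g u x₀ x₁ h v).choose_spec.2 w hw).symm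

omit [Flat g] [Surjective g] [QuasiCompact g] in
theorem transport_spec {T : Scheme.{u}} (x₀ x₁ : T ⟶ X) (h : x₀ ≫ g = x₁ ≫ g) (v : Desc.Lifts (Over.mk u) x₀)
    {Z : Scheme.{u}} (q : Z ⟶ T) (hq : q ≫ x₀ = q ≫ x₁) : q ≫ (transport g u x₀ x₁ h v).1 = q ≫ v.1 :=
  (existsUnique_lift g u x₀ x₁ h v).choose_spec.1 q hq

/-- The descent datum carried by an étale scheme. -/
noncomputable def datum : Desc.SchDD g where
  obj := Over.mk u
  φ T x₀ x₁ h :=
    { toFun := transport g u x₀ x₁ h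
      invFun := transport g u x₁ x₀ h.symm
      left_inv := fun v => (transport_eq_iff g u _ _ _ _ _).2 fun q hq =>
        (transport_spec g u x₀ x₁ h v q hq.symm).symm
      right_inv := fun v => (transport_eq_iff g u _ _ _ _ _).2 fun q hq =>
        (transport_spec g u x₁ x₀ h.symm v q hq.symm).symm }
  φ_natural T T' t x₀ x₁ h h' v v' hv' := by
    show (transport g u (t ≫ x₀) (t ≫ x₁) h' v').1 = t ≫ (transport g u x₀ x₁ h v).1
    have e := (transport_eq_iff g u (t ≫ x₀) (t ≫ x₁) h' v'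
      ⟨t ≫ (transport g u x₀ x₁ h v).1, by rw [Category.assoc, (transport g u x₀ x₁ h v).2]⟩).2 fun q hq => by
      show q ≫ t ≫ (transport g u x₀ x₁ h v).1 = q ≫ v'.1
      rw [hv', ← Category.assoc, ← Category.assoc]
      exact transport_spec g u x₀ x₁ h v (q ≫ t) (by rw [Category.assoc, Category.assoc]; exact hq)
    rw [e]
  φ_self T x v := (transport_eq_iff g u x x rfl v v).2 fun _ _ => rfl
  φ_comp T x₀ x₁ x₂ h₀₁ h₁₂ v := by
    show transport g u x₁ x₂ h₁₂ (transport g u x₀ x₁ h₀₁ v) = transport g u x₀ x₂ (h₀₁.trans h₁₂) v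
    refine ((transport_eq_iff g u _ _ _ _ _).2 fun q hq => ?_).symm
    obtain ⟨T₀, e, _, _, he⟩ := exists_equalizing g x₀ x₁ h₀₁
    have hv : v.1 ≫ u = x₀ := v.2
    have hw : (transport g u x₁ x₂ h₁₂ (transport g u x₀ x₁ h₀₁ v)).1 ≫ u = x₂ :=
      (transport g u x₁ x₂ h₁₂ _).2
    refine TopInv.eq_of_comp_eq u (pullback.fst q e) _ _ (by rw [Category.assoc, hw, Category.assoc, hv, hq]) ?_
    have h01 : (pullback.fst q e ≫ q) ≫ x₀ = (pullback.fst q e ≫ q) ≫ x₁ := by
      rw [pullback.condition, Category.assoc, Category.assoc, he]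
    have h12 : (pullback.fst q e ≫ q) ≫ x₁ = (pullback.fst q e ≫ q) ≫ x₂ := by
      rw [← h01, Category.assoc, Category.assoc, hq]
    rw [← Category.assoc, ← Category.assoc, transport_spec g u x₁ x₂ h₁₂ _ _ h12,
      transport_spec g u x₀ x₁ h₀₁ v _ h01]

omit [IsSeparated g] in
/-- Zariski local descent of étale schemes. -/
theorem exists_model_flat_radicial [IsSeparated g] [IsAffineHom g] (z : U) :
    ∃ W : U.Opens, z ∈ W ∧ Nonempty (Model g u W) := by
  obtain ⟨Ω, hΩ, hzΩ, -⟩ := exists_isAffineOpen_mem_and_subset (X := Y) (x := g (u z)) (U := ⊤) trivial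
  obtain ⟨W, hW, hzW, hWle⟩ := exists_isAffineOpen_mem_and_subset (x := z) (U := u ⁻¹ᵁ (g ⁻¹ᵁ Ω)) hzΩ
  haveI : IsAffine Ω.toScheme := hΩ
  haveI : IsAffine (g ⁻¹ᵁ Ω).toScheme := hΩ.preimage g
  haveI : IsAffine W.toScheme := hW
  let w : W.toScheme ⟶ (g ⁻¹ᵁ Ω).toScheme := IsOpenImmersion.lift (g ⁻¹ᵁ Ω).ι (W.ι ≫ u) (by
    rintro _ ⟨a, rfl⟩
    rw [Scheme.Opens.range_ι]
    exact hWle a.2)
  have hw : w ≫ (g ⁻¹ᵁ Ω).ι = W.ι ≫ u := IsOpenImmersion.lift_fac _ _ _
  haveI : Etale (w ≫ (g ⁻¹ᵁ Ω).ι) := by rw [hw]; infer_instance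
  haveI : Etale w := Etale.of_comp w (g ⁻¹ᵁ Ω).ι
  let p := g ∣_ Ω
  have hp := isPullback_morphismRestrict g Ω
  haveI : Flat p := MorphismProperty.of_isPullback (P := @Flat) hp.flip ‹_›
  haveI : Surjective p := MorphismProperty.of_isPullback (P := @Surjective) hp.flip ‹_›
  haveI : QuasiCompact p := MorphismProperty.of_isPullback (P := @QuasiCompact) hp.flip ‹_›
  haveI : UniversallyInjective p := MorphismProperty.of_isPullback (P := @UniversallyInjective) hp.flip ‹_›
  haveI : IsAffineHom (datum p w).obj.hom := by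
    show IsAffineHom w
    infer_instance
  obtain ⟨V, ⟨iso⟩⟩ := S1133.result p (datum p w)
  let e : pullback p V.hom ≅ W.toScheme :=
    { hom := iso.hom.hom.left
      inv := iso.inv.hom.left
      hom_inv_id := congr($(iso.hom_inv_id).hom.left)
      inv_hom_id := congr($(iso.inv_hom_id).hom.left) }
  have he : e.hom ≫ w = pullback.fst p V.hom := Over.w iso.hom.hom
  have sq : IsPullback (e.inv ≫ pullback.snd p V.hom) w V.hom p := by
    refine (IsPullback.of_hasPullback p V.hom).flip.of_iso e (Iso.refl _) (Iso.refl _) (Iso.refl _) ?_ ?_ (by simp) (by simp)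
    · simp
    · simp [he]
  haveI : Etale V.hom := MorphismProperty.DescendsAlong.of_isPullback (P := @Etale)
    (Q := @Surjective ⊓ @Flat ⊓ @QuasiCompact) sq.flip ⟨⟨‹_›, ‹_›⟩, ‹_›⟩ ‹_›
  refine ⟨W, hzW, ⟨⟨V.left, V.hom ≫ Ω.ι, inferInstance, e.inv ≫ pullback.snd p V.hom, ?_⟩⟩⟩
  rw [← hw]
  exact sq.paste_vert hp

/-- Base change along a faithfully flat quasi-compact radicial morphism is an equivalence. -/
theorem isEquivalence_bc_flat_radicial {X Y : Scheme.{u}} (g : X ⟶ Y) [Flat g] [Surjective g] [QuasiCompact g]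
    [UniversallyInjective g] : (EtCoh.bc g).IsEquivalence := by
  have hu := isUnivHomeo_of_flat_radicial g
  haveI := UnivHomeo.isIntegralHom hu
  exact isEquivalence_bc g fun U z => by
    haveI : Etale U.hom := U.prop
    exact exists_model_flat_radicial g U.hom z

end Groth.Agent.EtGlueLib
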